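import Cfsg.Agent.TAB.F23.G1
import Cfsg.Agent.TAB.F24C.E63_m3
import Cfsg.Agent.Prune
set_option linter.all false

-- part: TAB/F23/G2
section
set_option linter.all false
open scoped Cfsg.Agent.FastGrp

/-!
# `Fi₂₃` : all the rows are virtual (helper12, TAB; generated by `notes/TAB/F23/gen.py.txt`)
-/

set_option autoImplicit false
set_option maxRecDepth 100000

namespace Cfsg.Agent.TAB.F23

open Cfsg Cfsg.Agent.TAB.Eng Cfsg.Agent.TAB.Use Cfsg.Agent.TAB.Glue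

/-- the rows which are used as seeds -/
def ix2 : List ℕ := [1, 2, 3, 4, 5, 22]

/-- a seed -/
def s2_0 : List ℤ := [.negSucc 38574264190175, .ofNat 4225824, .negSucc 62702815, .negSucc 53452260575,
    .negSucc 1484, .negSucc 23435, .negSucc 93095, .negSucc 71204210, .ofNat 288, .ofNat 5664, .ofNat 288,
    .negSucc 117215, .negSucc 0, .negSucc 44, .negSucc 44, .negSucc 44, .negSucc 179, .negSucc 499, .ofNat 216,
    .negSucc 107, .ofNat 5517, .negSucc 2983, .negSucc 73511, .negSucc 935, .negSucc 395, .ofNat 5629,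
    .ofNat 5949, .negSucc 0, .ofNat 0, .ofNat 0, .ofNat 0, .ofNat 0, .negSucc 35, .negSucc 35, .ofNat 0,
    .ofNat 0, .negSucc 0, .negSucc 0, .negSucc 0, .ofNat 0, .ofNat 3, .ofNat 12, .ofNat 0, .ofNat 12, .ofNat 0,
    .negSucc 146, .negSucc 2, .ofNat 3, .ofNat 0, .ofNat 24, .negSucc 14, .ofNat 24, .ofNat 0, .negSucc 110,
    .negSucc 71, .ofNat 0, .negSucc 0, .negSucc 0, .negSucc 0, .negSucc 0, .ofNat 0, .ofNat 0, .ofNat 0,
    .ofNat 4, .ofNat 0, .ofNat 0, .ofNat 4, .ofNat 0, .ofNat 0, .ofNat 0, .negSucc 0, .negSucc 0, .negSucc 0,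
    .ofNat 0, .ofNat 0, .ofNat 0, .ofNat 9, .negSucc 2, .ofNat 0, .ofNat 0, .ofNat 0, .negSucc 0, .negSucc 0,
    .negSucc 0, .negSucc 0, .negSucc 0, .ofNat 0, .ofNat 0, .ofNat 0, .negSucc 0, .negSucc 0, .negSucc 1259]

/-- a seed -/
def s2_1 : List ℤ := [.negSucc 30403554382577375, .ofNat 16570656, .negSucc 2350595807, .negSucc 2664883574495,
    .ofNat 0, .ofNat 0, .negSucc 20155391, .ofNat 0, .ofNat 2592, .ofNat 10944, .negSucc 7775, .negSucc 191807,
    .negSucc 350, .ofNat 0, .ofNat 0, .ofNat 0, .ofNat 0, .ofNat 0, .ofNat 0, .ofNat 0, .ofNat 0, .ofNat 13824,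
    .ofNat 0, .ofNat 0, .ofNat 0, .ofNat 0, .ofNat 0, .negSucc 20, .ofNat 0, .ofNat 72, .negSucc 23, .ofNat 0,
    .ofNat 0, .ofNat 0, .ofNat 0, .ofNat 0, .negSucc 8, .negSucc 2, .negSucc 20, .ofNat 0, .ofNat 0, .ofNat 0,
    .ofNat 0, .ofNat 0, .ofNat 0, .ofNat 0, .ofNat 0, .ofNat 0, .ofNat 0, .ofNat 0, .ofNat 0, .ofNat 0,
    .ofNat 0, .ofNat 0, .ofNat 0, .ofNat 0, .negSucc 0, .negSucc 2, .ofNat 0, .ofNat 0, .ofNat 0, .ofNat 0,
    .ofNat 0, .ofNat 0, .ofNat 0, .ofNat 0, .ofNat 0, .ofNat 0, .ofNat 0, .ofNat 0, .negSucc 0, .negSucc 2,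
    .ofNat 0, .ofNat 0, .ofNat 0, .ofNat 0, .ofNat 0, .ofNat 0, .ofNat 0, .ofNat 0, .ofNat 0, .negSucc 0,
    .ofNat 0, .ofNat 0, .ofNat 0, .negSucc 0, .ofNat 0, .ofNat 0, .ofNat 0, .ofNat 0, .ofNat 0, .ofNat 0]

/-- the program for the seeds -/
def slp2 : List (List ℤ × Sm1.Op) := [(s2_0, .del 5 2), (s2_1, .coad 30 3)]

/-- the seeds -/
noncomputable def seeds2 : List (List ℤ) := (ix2.map (ntd rows []) ++ seeds1) ++ slp2.map Prod.fst

theorem ok_slp2 : Sm1.chkSlp D true slp2 (ix2.map (ntd rows []) ++ seeds1) = true := by decide +kernel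

/-- the levels -/
def lv2 : List Lv := [⟨0, 2, 1, [], true⟩, ⟨1, 2, 1, [], true⟩, ⟨2, 2, 1, [], true⟩, ⟨3, 2, 1, [], true⟩, ⟨4, 2,
    1, [], true⟩, ⟨5, 2, 1, [], true⟩, ⟨6, 2, 1, [], true⟩, ⟨9, 2, 1, [], true⟩, ⟨10, 2, 1, [], true⟩, ⟨12, 2,
    1, [], true⟩, ⟨13, 2, 1, [], true⟩, ⟨15, 2, 1, [], true⟩, ⟨16, 2, 1, [], true⟩, ⟨17, 2, 1, [], true⟩, ⟨18,
    2, 1, [], true⟩, ⟨19, 2, 1, [], true⟩, ⟨20, 2, 1, [], true⟩, ⟨21, 2, 1, [], true⟩, ⟨22, 2, 1, [], true⟩,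
    ⟨23, 2, 1, [], true⟩, ⟨24, 2, 1, [], true⟩, ⟨25, 2, 1, [], true⟩, ⟨26, 2, 1, [], true⟩, ⟨27, 2, 1, [],
    true⟩, ⟨28, 2, 1, [], true⟩, ⟨31, 2, 1, [], true⟩, ⟨35, 2, 1, [], true⟩, ⟨36, 2, 1, [], true⟩, ⟨39, 2, 1,
    [], true⟩, ⟨40, 2, 1, [], true⟩, ⟨43, 2, 1, [], true⟩, ⟨44, 2, 1, [], true⟩, ⟨45, 2, 1, [], true⟩, ⟨46, 2,
    1, [], true⟩, ⟨48, 2, 1, [], true⟩, ⟨49, 2, 1, [], true⟩, ⟨50, 2, 1, [], true⟩, ⟨51, 2, 1, [], true⟩, ⟨52,
    2, 1, [], true⟩, ⟨53, 2, 1, [], true⟩, ⟨54, 2, 1, [], true⟩, ⟨55, 2, 1, [], true⟩, ⟨56, 2, 1, [], true⟩,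
    ⟨61, 2, 1, [], true⟩, ⟨62, 2, 1, [], true⟩, ⟨63, 2, 1, [], true⟩, ⟨64, 2, 1, [], true⟩, ⟨65, 2, 1, [],
    true⟩, ⟨67, 2, 1, [], true⟩, ⟨68, 2, 1, [], true⟩, ⟨69, 2, 1, [], true⟩, ⟨70, 2, 1, [], true⟩, ⟨72, 2, 1,
    [], true⟩, ⟨73, 2, 1, [], true⟩, ⟨75, 2, 1, [], true⟩, ⟨76, 2, 1, [], true⟩, ⟨77, 2, 1, [], true⟩, ⟨78, 2,
    1, [], true⟩, ⟨79, 2, 1, [], true⟩, ⟨80, 2, 1, [], true⟩, ⟨81, 2, 1, [], true⟩, ⟨83, 2, 1, [], true⟩, ⟨84,
    2, 1, [], true⟩, ⟨85, 2, 1, [], true⟩, ⟨86, 1, 1, [], true⟩, ⟨88, 1, 1, [], true⟩, ⟨89, 1, 1, [], true⟩,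
    ⟨90, 1, 1, [], true⟩, ⟨91, 1, 1, [], true⟩, ⟨7, 2, 8, [], true⟩, ⟨8, 2, 1, [1], true⟩, ⟨11, 2, 1, [7],
    true⟩, ⟨14, 2, 1, [1], true⟩, ⟨29, 2, 1, [7], true⟩, ⟨30, 2, 1, [7], true⟩, ⟨32, 2, 1, [7], true⟩, ⟨47, 2,
    1, [1], true⟩, ⟨57, 2, 1, [1], true⟩, ⟨58, 2, 1, [1], true⟩, ⟨59, 2, 1, [1], true⟩, ⟨60, 2, 1, [1], true⟩,
    ⟨66, 2, 1, [7], true⟩, ⟨82, 2, 1, [7], true⟩, ⟨87, 1, 1, [2], true⟩, ⟨33, 2, 2, [4], true⟩, ⟨34, 2, 1, [1,
    0], true⟩, ⟨37, 2, 1, [1, 0], true⟩, ⟨38, 2, 1, [1, 0], true⟩, ⟨41, 2, 1, [1, 4], true⟩, ⟨42, 2, 1, [1, 4],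
    true⟩, ⟨71, 2, 1, [1, 4], true⟩, ⟨74, 2, 1, [1, 0], true⟩]

/-- certificates -/
def c2_2_0 : ℕ × ℕ × List Cert := (2, 18, [⟨0, [.one, .gen 0 1 0, .mul 0 0, .mul 1 0, .gen 1 1 0, .mul 3 0, .mul
    1 1, .gen 2 1 0, .mul 6 0, .gen 3 1 0, .mul 8 0, .gen 4 1 0, .gen 31 1 0, .lin [(4033, 10), (67113, 9),
    (28750, 8), (228345, 7), (30066, 6), (53094, 4), (15286, 3), (217329, 2), (113260, 1)], .lin [(94103, 10),
    (236346, 9), (126154, 8), (196142, 7), (78632, 5), (66448, 4), (222408, 3), (106742, 2)], .lin [(14538, 10),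
    (152481, 9), (139825, 8), (85636, 6), (37208, 5), (22718, 4), (84140, 3)], .lin [(258047, 11), (8194, 6),
    (4097, 4)], .lin [(3509, 10), (229381, 8), (4687, 7), (32765, 6), (18727, 5)], .lin [(78995, 17), (78995,
    10), (135752, 8), (115273, 7), (183149, 6)], .lin [(170394, 9), (176947, 8)], .lin [(98310, 8), (169301,
    7)], .lin [(1, 9)], .lin [(1, 12)], .lin [(262143, 15)]], [(11, 1), (8, 2), (9, 4), (10, 32), (5, 8), (7,
    64), (4, 16), (6, 64), (0, 128), (1, 4096), (2, 2048)]⟩,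
⟨4, [.one, .gen 0 1 0, .gen 1 1 0, .mul 1 0, .mul 1 1, .mul 2 1, .lin [(81313, 5), (245153, 4), (26700, 3),
    (26700, 2), (154131, 1), (252435, 0)], .lin [(174763, 6), (174760, 5), (87384, 4), (87380, 3), (1, 2)], .lin
    [(87381, 7), (218453, 6), (43691, 5), (174763, 4)], .lin [(131073, 7), (131071, 6)], .lin [(131073, 9),
    (131071, 8)], .lin [(1, 10)]], [(4, 1), (5, 2), (0, 2), (1, 4), (2, 8), (3, 16)]⟩,
⟨6, [.gen 0 1 0, .mul 0 0, .mul 1 0, .gen 1 1 0, .mul 3 0, .mul 4 0, .mul 2 2, .mul 3 2, .mul 4 1, .gen 2 1 0,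
    .mul 0 0, .gen 3 1 0, .lin [(61681, 10), (95486, 9), (134174, 8), (64960, 7), (4328, 6), (60717, 5), (94048,
    4), (53148, 3), (24732, 2), (75745, 1), (59554, 0)], .lin [(14583, 10), (236572, 9), (106474, 8), (141761,
    7), (187450, 6), (56751, 5), (71737, 4), (201968, 3), (78576, 2), (197568, 1)], .lin [(77293, 10), (151529,
    9), (53082, 8), (165254, 7), (81609, 6), (127344, 5), (255712, 4), (135586, 3), (189835, 2)], .lin [(243460,
    10), (82821, 9), (22572, 8), (8546, 7), (97885, 6), (58244, 5), (116535, 4), (213416, 3)], .lin [(104929,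
    11), (101551, 9), (240107, 8), (124003, 7), (176748, 6), (189590, 5), (142662, 4)], .lin [(86267, 10),
    (176992, 9), (96298, 8), (108782, 7), (168076, 6), (5573, 5)], .lin [(85263, 10), (124717, 9), (137295, 8),
    (196542, 7), (39454, 6)], .lin [(1, 10), (65620, 9), (229419, 8), (1, 7)], .lin [(2, 10), (1, 9)], .lin
    [(131071, 11)], .lin [(262143, 10)]], [(10, 1), (5, 2), (8, 8), (9, 2), (6, 4), (7, 8), (1, 8), (3, 64), (2,
    16), (0, 64), (4, 1024)]⟩,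
⟨7, [.one, .gen 0 1 0, .mul 0 0, .gen 2 1 0, .mul 2 0, .mul 1 1, .mul 2 0, .gen 3 1 0, .gen 5 1 0, .mul 5 0,
    .gen 5 1 1, .lin [(178892, 10), (72867, 9), (59615, 8), (252323, 7), (181015, 6), (136712, 5), (206058, 4),
    (237158, 3)], .lin [(262143, 11), (174762, 10), (174763, 9)], .lin [(74027, 12), (48668, 11), (208752, 9),
    (108109, 7), (75284, 5), (211207, 4), (82277, 3)], .lin [(194668, 13), (138150, 12), (142947, 10), (60398,
    8), (26031, 6)], .lin [(114691, 14), (203888, 13), (105590, 11), (194787, 9), (10922, 6)], .lin [(136534,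
    15), (112867, 14), (36410, 12), (12743, 10)], .lin [(207531, 16), (207531, 13), (54613, 8)], .lin [(1, 17),
    (1, 14)], .lin [(65539, 18), (21845, 8)], .lin [(1, 19)]], [(8, 1), (9, 4), (6, 2), (7, 8), (4, 4), (5, 16),
    (0, 8), (1, 64), (2, 64), (3, 512)]⟩,
⟨33, [.one, .gen 1 1 0, .mul 0 0, .gen 3 1 0, .lin [(65545, 3), (4, 2), (196603, 1), (4, 0)], .lin [(183501, 4),
    (183501, 3), (52429, 1)], .lin [(131073, 5), (131071, 4)], .lin [(1, 6)]], [(2, 1), (3, 2), (0, 2), (1,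
    8)]⟩,
⟨34, [.one, .gen 3 1 0, .lin [(131075, 1), (131071, 0)], .lin [(1, 2)]], [(0, 1), (1, 2)]⟩])

/-- certificates -/
def c2_3_0 : ℕ × ℕ × List Cert := (3, 13, [⟨0, [.one, .gen 0 1 0, .mul 0 0, .mul 1 0, .gen 1 1 0, .mul 3 0, .mul
    1 1, .gen 2 1 0, .mul 3 0, .gen 3 1 0, .lin [(19924, 9), (736986, 8), (1048683, 7), (331621, 6), (1198920,
    5), (1198920, 4)], .lin [(1317941, 10), (1001209, 9), (905582, 8), (1242161, 6), (498144, 5), (1116026, 4),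
    (372009, 3), (478297, 2)], .lin [(1335983, 11), (1033357, 10), (1291697, 9), (465011, 7), (996452, 6)], .lin
    [(728273, 12), (1456546, 11), (1495907, 10), (1446699, 8), (1190821, 6), (826689, 5), (295248, 3)], .lin
    [(59050, 13), (206675, 12), (1564798, 11), (1417173, 9), (177150, 6)], .lin [(1417177, 14), (531438, 13),
    (1062885, 10), (708584, 7), (1240031, 5)], .lin [(1, 14), (1594322, 11), (1, 8)], .lin [(797161, 16),
    (797161, 15), (797162, 12)], .lin [(1, 17), (1, 16)], .lin [(1, 18)]], [(10, 1), (5, 3), (6, 3), (7, 9), (8,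
    9), (9, 27), (1, 81), (2, 243), (4, 729), (0, 2187)]⟩,
⟨1, [.one, .gen 0 1 0, .mul 0 0, .mul 1 0, .gen 1 1 0, .mul 3 0, .mul 4 0, .mul 5 0, .gen 2 1 0, .mul 7 0, .mul
    5 1, .gen 3 1 0, .lin [(1467040, 11), (85818, 10), (891246, 9), (1209586, 8), (755171, 7), (421413, 6),
    (1282938, 5), (1085255, 4)], .lin [(1328594, 12), (1490983, 11), (1011218, 10), (1380270, 9), (398580, 8),
    (36905, 7), (701207, 6), (915259, 4), (383818, 3)], .lin [(364129, 13), (1180977, 12), (1513134, 11),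
    (696286, 10), (1195743, 9), (1395033, 8), (199290, 7)], .lin [(531445, 14), (2, 13), (1594321, 12),
    (1062881, 10), (797161, 9), (797162, 8)], .lin [(1116026, 15), (558013, 14), (1036310, 13)], .lin [(531441,
    16), (797162, 15), (1062882, 12), (797161, 11), (797161, 8), (797162, 6)], .lin [(974309, 17), (442868, 16),
    (620014, 13), (1151455, 12)], .lin [(1, 18), (1, 17)], .lin [(1, 15), (1594322, 11), (1, 8)], .lin [(531442,
    20), (531442, 16), (1062881, 12)], .lin [(2, 21), (1, 17)], .lin [(1, 22)]], [(9, 1), (10, 3), (11, 3), (1,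
    3), (3, 3), (5, 9), (6, 9), (0, 9), (2, 27), (4, 81), (7, 27), (8, 243)]⟩,
⟨10, [.one, .gen 0 1 0, .mul 0 0, .mul 1 0, .gen 1 1 0, .mul 3 0, .gen 3 1 0, .gen 5 1 0, .lin [(661843, 7),
    (1443009, 6), (214050, 5), (1027207, 4), (1550034, 3), (1550034, 2)], .lin [(1047698, 8), (1579139, 7),
    (516257, 4), (1047698, 3)], .lin [(1594322, 9), (797161, 8), (797162, 7)], .lin [(1594321, 10), (1594322,
    9), (1594322, 6), (1, 4)], .lin [(930022, 11), (930022, 7), (996452, 4)], .lin [(1, 12), (1, 11)], .lin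
    [(1062884, 13), (1062881, 9)], .lin [(1, 14)]], [(3, 1), (7, 3), (1, 3), (2, 3), (4, 3), (5, 9), (0, 9), (6,
    81)]⟩])

/-- the certificates for the relations -/
def CL2 : List (ℕ × ℕ × List Cert) := [c2_2_0, c2_3_0]

theorem ok_c2_2_0 : chkX D seeds2 rows (rels lv2 []) c2_2_0 = true := by decide +kernel

theorem ok_c2_3_0 : chkX D seeds2 rows (rels lv2 []) c2_3_0 = true := by decide +kernel

theorem ok_CL2 : ∀ y ∈ CL2, chkX D seeds2 rows (rels lv2 []) y = true :=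
  List.forall_mem_cons.2 ⟨ok_c2_2_0, List.forall_mem_cons.2 ⟨ok_c2_3_0, List.forall_mem_nil _⟩⟩

theorem ok_all2 : (PL.all fun x => x.2.2.all fun t => Co.hasC CL0 x.1 t || Co.hasC CL2 x.1 t) = true := by
  decide +kernel

/-- the combination without the zero terms -/
private noncomputable def cz (rows : List (List ℤ)) (c : List (ℤ × ℕ)) : List ℤ :=
  List.rec [] (fun p _ ih => Int.rec (fun n => Nat.rec ih (fun _ _ => addL ((ntd rows [] p.2).map (Int.mul p.1)) ih) n)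
    (fun _ => addL ((ntd rows [] p.2).map (Int.mul p.1)) ih) p.1) c

private theorem nth_cz (rows : List (List ℤ)) (c : List (ℤ × ℕ)) : nth (comb rows c) = nth (cz rows c) := by
  induction c with
  | nil => rfl
  | cons p c ih =>
    funext t
    obtain ⟨a, j⟩ := p
    have h : nth (comb rows ((a, j) :: c)) t = nth (addL ((ntd rows [] j).map (Int.mul a)) (cz rows c)) t := by
      rw [nth_addL, ← ih]
      exact nth_addL _ _ t
    cases a with
    | negSucc n => exact h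
    | ofNat n => cases n with
      | succ n => exact h
      | zero => exact (nth_comb_cons rows (0, j) c t).trans (by rw [zero_mul, zero_add, ih]; rfl)

theorem ok_lv2 : okG D rows nm lv2 2 2 true = true := by
  have h : Glue.fin2 = fun (D : Dat) rows (M : ℕ) reg (b : ℤ) c => frcLZ (cz rows c) fun P =>
      (reg && (decide (nth P 0 ≤ 0) || decide (nth P 0 % M ≠ 0) || decide ((D.N : ℤ) % (nth P 0 / M) ≠ 0))) ||
        (decide (b = 0) && (List.range D.n).any fun t => decide (0 < D.cnt t) && decide (nth P t % M ≠ 0)) := by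
    funext D rows M reg b c
    show frcLZ _ _ = _
    rw [frcLZ_eq, frcLZ_eq, nth_cz]
  delta okG
  rw [h]
  decide +kernel

variable {G : Type} [Group G] [Finite G] {T : TD G D}

theorem virt_seeds2 (h : Hyp T) : ∀ v ∈ seeds2, Virt T (nth v) :=
  Sm1.virt_chkSlp h.slp slp2 (List.forall_mem_append.2 ⟨virt_ix (virt_lv1 h) (by decide +kernel), virt_seeds1 h⟩)
    ok_slp2

/-- **all the rows are generalized characters** -/
theorem rows_of (h : Hyp T) : ∀ r ∈ rows, Virt T (nth r) :=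
  virt_all (glue h.1 orth ok_lv2 (virt_combs h.1.1 okPL (good0 h) (virt_seeds2 h) ok_CL2 ok_all2))
    (by decide +kernel)

/-- **the table** -/
theorem tab_of (h : Hyp T) : Tab T R :=
  Sm1.tab_of_cls h.1 (fun _ hr => rows_of h _ (List.of_mem_zip hr).2) okTab h.2.2.2

end Cfsg.Agent.TAB.F23
end

-- part: TAB/F23/Use
section
set_option linter.all false

/-!
# `Fi₂₃` : the consequences of the table (helper12, TAB)
-/

set_option autoImplicit false

namespace Cfsg.Agent.TAB.F23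

open Cfsg Cfsg.Agent.TAB.Eng Cfsg.Agent.TAB.Use

variable {G : Type} [Group G] {T : TD G D}

theorem Hyp.finite (h : Hyp T) : Finite G := Nat.finite_of_card_ne_zero (h.1.1 ▸ by decide)

theorem Hyp.inh (h : Hyp T) : Inh T := inh_of_mass h.1 cnt_pos

theorem Hyp.van (h : Hyp T) : VAN.Van3 G :=
  have := h.finite
  (tab_of h).van3 h.inh h.1.1 PP (by decide +kernel) _ _ _ okVan

theorem Hyp.odd (h : Hyp T) : OddRat G :=
  have := h.finite
  (tab_of h).oddRat h.inh [] rfl okOdd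

theorem Hyp.sig (h : Hyp T) : OddSig G :=
  have := h.finite
  (tab_of h).oddSig h.inh [] rfl [] (List.forall_mem_nil _) okOdd

theorem Hyp.deg (h : Hyp T) : DegList G degs :=
  have := h.finite
  (tab_of h).degList

theorem van_of (h : In) : VAN.Van3 Spor.Fi23 := h.choose_spec.van

theorem odd_of (h : In) : OddRat Spor.Fi23 := h.choose_spec.odd

theorem sig_of (h : In) : OddSig Spor.Fi23 := h.choose_spec.sig

theorem deg_of (h : In) : DegList Spor.Fi23 degs := h.choose_spec.deg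

end Cfsg.Agent.TAB.F23
end

-- part: TAB/F23C/Main
section
set_option linter.all false

/-!
# `Fi₂₃` : the table and its consequences, without hypotheses (helper21, TAB)
-/

set_option autoImplicit false

namespace Cfsg.Agent.TAB.F23C

open Cfsg Cfsg.Agent.TAB.Use Cfsg.Agent.TAB.F23

theorem inF23 : F23.In :=
  let ⟨T, h, _⟩ := box
  ⟨T, h⟩

theorem odd : OddRat Spor.Fi23 := odd_of inF23

theorem sig : OddSig Spor.Fi23 := sig_of inF23

theorem deg : DegList Spor.Fi23 degs := deg_of inF23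

end Cfsg.Agent.TAB.F23C
end
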